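import Groth.Agent.RFBoundLib.Main
import Groth.Agent.KFlat.BddAbove
import Groth.Agent.LocZLib.QCohLC
import Groth.Agent.LocZLib.DepthCrit
import Groth.Agent.LocZLib.Edge
import Groth.Agent.S6027
import Groth.Agent.S14116
import Groth.Prelude.Def_CxOX

/-! Vanishing of cohomology with supports of complexes of locally free sheaves. -/

set_option autoImplicit false
set_option linter.style.haveILetI false
set_option backward.isDefEq.respectTransparency false
set_option backward.isDefEq.respectTransparency.types false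
set_option maxHeartbeats 1000000

universe v u

open CategoryTheory CategoryTheory.Limits AlgebraicGeometry TopologicalSpace Opposite
open scoped ZeroObject

attribute [local instance] HasDerivedCategory.standard

noncomputable section

namespace Groth.Agent.RsectDepthLib

section Generic

variable {A : Type (v + 1)} [Category.{v} A] [Abelian A] [IsGrothendieckAbelian.{v} A]
  (F : A ⥤ AddCommGrpCat.{v}) [F.Additive] [EnoughInjectives A]
  [(F.mapHomotopyCategory (ComplexShape.up ℤ) ⋙ DerivedCategory.Qh).HasRightDerivedFunctor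
    (HomotopyCategory.quasiIso A (ComplexShape.up ℤ))]

local notation "RF" => Functor.totalRightDerived (Functor.mapHomotopyCategory F (ComplexShape.up ℤ) ⋙ DerivedCategory.Qh)
  DerivedCategory.Qh (HomotopyCategory.quasiIso A (ComplexShape.up ℤ))

/-- A single object in degree zero. -/
theorem isZero_single_zero (M : A) (p : ℕ) (hM : IsZero ((F.rightDerived p).obj M)) :
    IsZero ((DerivedCategory.homologyFunctor AddCommGrpCat.{v} (p : ℤ)).obj
      ((RF).obj ((DerivedCategory.singleFunctor A 0).obj M))) := by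
  let hres := KInj.hres_of_isGrothendieckAbelian A
  let Z : DerivedCategory.Plus A := (DerivedCategory.Plus.singleFunctor A 0).obj M
  obtain ⟨L, hL, ⟨e⟩⟩ := DerivedCategory.Plus.exists_injective_nonempty_iso Z 0
  let I : CochainComplex A ℤ := ((InjectiveObject.ι A).mapHomologicalComplex (ComplexShape.up ℤ)).obj L.obj
  haveI : I.IsStrictlyGE 0 := inferInstance
  haveI : ∀ n, Injective (I.X n) := fun n => inferInstanceAs (Injective ((InjectiveObject.ι A).obj (L.obj.X n)))
  haveI := CochainComplex.isKInjective_of_injective I 0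
  let Φ := F.mapHomotopyCategory (ComplexShape.up ℤ) ⋙ DerivedCategory.Qh
  let α := Φ.totalRightDerivedUnit DerivedCategory.Qh (HomotopyCategory.quasiIso A (ComplexShape.up ℤ))
  haveI := KInj.isIso_app_of_isKInjective hres Φ RF α I
  let q := HomotopyCategory.quotient A (ComplexShape.up ℤ)
  let S' := (F.mapHomologicalComplex (ComplexShape.up ℤ)).obj I
  let eE : DerivedCategory.Qh.obj (q.obj I) ≅ (DerivedCategory.singleFunctor A 0).obj M :=
    (DerivedCategory.quotientCompQhIso A).app I ≪≫ DerivedCategory.Plus.ι.mapIso e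
  let e₂ : (DerivedCategory.homologyFunctor _ (p : ℤ)).obj ((RF).obj ((DerivedCategory.singleFunctor A 0).obj M)) ≅
      S'.homology p :=
    (DerivedCategory.homologyFunctor _ (p : ℤ)).mapIso (((RF).mapIso eE).symm ≪≫ (asIso (α.app (q.obj I))).symm ≪≫
      DerivedCategory.Qh.mapIso ((F.mapHomotopyCategoryFactors (ComplexShape.up ℤ)).app I) ≪≫
      (DerivedCategory.quotientCompQhIso _).app S') ≪≫
      (DerivedCategory.homologyFunctorFactors _ (p : ℤ)).app S'
  obtain ⟨e₁⟩ := SpSeqLib.nonempty_rG_single_iso F M p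
  refine hM.of_iso (e₂ ≪≫ (SpSeqLib.rGInjIso F L (p : ℤ)).symm ≪≫ ((SpSeqLib.rG F).shift (p : ℤ)).mapIso e ≪≫ e₁)

/-- A single object whose low derived functors vanish. -/
theorem isZero_single (M : A) (d : ℕ) (hM : ∀ p : ℕ, p < d → IsZero ((F.rightDerived p).obj M)) (a n : ℤ)
    (h : n < a + d) :
    IsZero ((DerivedCategory.homologyFunctor AddCommGrpCat.{v} n).obj
      ((RF).obj (DerivedCategory.Q.obj ((HomologicalComplex.single A (ComplexShape.up ℤ) a).obj M)))) := by
  by_cases hn : n < a
  · haveI : (DerivedCategory.Q.obj ((HomologicalComplex.single A (ComplexShape.up ℤ) a).obj M)).IsGE a :=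
      inferInstance
    exact RFBoundLib.isZero_of_isGE' F _ a n hn
  · obtain ⟨p, hp⟩ : ∃ p : ℕ, n = a + p := ⟨(n - a).toNat, by omega⟩
    obtain ⟨G, _, hG, ⟨eG⟩⟩ := RFBoundLib.exists_triangulated F
    let S₀ := (DerivedCategory.singleFunctor A 0).obj M
    let eS : DerivedCategory.Q.obj ((HomologicalComplex.single A (ComplexShape.up ℤ) a).obj M) ≅ S₀⟦-a⟧ :=
      ((DerivedCategory.singleFunctorIsoCompQ A a).app M).symm ≪≫
        (((DerivedCategory.singleFunctors A).shiftIso (-a) a 0 (by omega)).app M).symm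
    refine (isZero_single_zero F M p (hM p (by omega))).of_iso ?_
    exact (DerivedCategory.homologyFunctor _ n).mapIso ((RF).mapIso eS ≪≫ eG.app _ ≪≫
        (G.commShiftIso (-a)).app S₀ ≪≫ (shiftFunctor _ (-a)).mapIso (eG.app S₀).symm) ≪≫
      ((DerivedCategory.homologyFunctor AddCommGrpCat.{v} 0).shiftIso (-a) n (p : ℤ) (by omega)).app _

theorem isZero_brutal_step (K : CochainComplex A ℤ) (d : ℕ)
    (hK : ∀ (q : ℤ) (p : ℕ), p < d → IsZero ((F.rightDerived p).obj (K.X q))) (n : ℤ) (hn : n < d + d) :
    ∀ (k : ℕ) (a : ℤ), (d : ℤ) ≤ a → n + 1 ≤ a + k →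
      IsZero ((DerivedCategory.homologyFunctor AddCommGrpCat.{v} n).obj
        ((RF).obj (DerivedCategory.Q.obj (KFlat.brutal K a)))) := by
  intro k
  induction k with
  | zero =>
    intro a ha h
    haveI : (KFlat.brutal K a).IsStrictlyGE a := by
      rw [CochainComplex.isStrictlyGE_iff]
      exact fun i hi => KFlat.isZero_brutal K a hi
    haveI : (DerivedCategory.Q.obj (KFlat.brutal K a)).IsGE a := inferInstance
    exact RFBoundLib.isZero_of_isGE' F _ a n (by omega)
  | succ k ih =>
    intro a ha h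
    have hS : (KFlat.brutalShortComplex K a).ShortExact :=
      HomologicalComplex.shortExact_of_degreewise_shortExact _ fun i => (KFlat.brutalSplitting K a i).shortExact
    refine (RFBoundLib.rf_triangle F _ (DerivedCategory.triangleOfSES_distinguished hS) n (n + 1) rfl).1
      (ih (a + 1) (by omega) (by omega)) ?_
    exact isZero_single F (K.X a) d (hK a) a n (by omega)

theorem isZero_of_terms (K : CochainComplex A ℤ) (d : ℕ) (hK0 : ∀ q : ℤ, q < d → IsZero (K.X q))
    (hK : ∀ (q : ℤ) (p : ℕ), p < d → IsZero ((F.rightDerived p).obj (K.X q))) (n : ℤ) (hn : n < d + d) :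
    IsZero ((DerivedCategory.homologyFunctor AddCommGrpCat.{v} n).obj ((RF).obj (DerivedCategory.Q.obj K))) := by
  haveI : IsIso (KFlat.brutalι K (d : ℤ)) := by
    haveI : ∀ i, IsIso ((KFlat.brutalι K (d : ℤ)).f i) := fun i => by
      by_cases hi : (d : ℤ) ≤ i
      · exact KFlat.isIso_incl K _ hi
      · exact ⟨0, (KFlat.isZero_brutal K _ (by omega)).eq_of_src _ _, (hK0 i (by omega)).eq_of_src _ _⟩
    exact HomologicalComplex.Hom.isIso_of_components _
  exact (isZero_brutal_step F K d hK n hn (n + 1 - d).toNat d le_rfl (by omega)).of_iso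
    ((DerivedCategory.homologyFunctor _ n).mapIso ((RF).mapIso
      (DerivedCategory.Q.mapIso (asIso (KFlat.brutalι K (d : ℤ))).symm)))

end Generic

section Scheme

variable {U X : Scheme.{u}} (j : U ⟶ X) [IsOpenImmersion j]

/-- Global sections with supports, through the underlying abelian sheaf. -/
def sectZAbIso : CxOX.sectZAb j ≅ QCohLib.toAbF X ⋙ LocCohZ.gammaZF (X := X.carrier) j.opensRange :=
  Functor.isoWhiskerRight (LocZLib.QCohLC.gammaZToAbIso j)
    (sheafToPresheaf (Opens.grothendieckTopology X.carrier) AddCommGrpCat.{u} ⋙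
      (evaluation (Opens X.carrier)ᵒᵖ AddCommGrpCat.{u}).obj (op ⊤))

theorem nonempty_RHZ_equiv (W : X.Opens) (F : CohTop.Ab X.carrier) (q : ℕ) :
    Nonempty (((LocCohZ.RHZ (X := X.carrier) W q).obj F) ≃+ LocCohZ.HZc (X := X.carrier) F q W) := by
  obtain ⟨e⟩ := S6027.result (X := X.carrier) W q
  exact ⟨(e.app F).addCommGroupIsoToAddEquiv.trans (LocCohZ.HZcEquivHZFunctor F q W).symm⟩

instance preservesFiniteLimits_gammaZF (W : X.Opens) :
    PreservesFiniteLimits (LocCohZ.gammaZF (X := X.carrier) W) := by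
  haveI := LocZLib.preservesFiniteLimits_sectSupp (X := X.carrier) W
  unfold LocCohZ.gammaZF
  haveI := comp_preservesFiniteLimits (sheafToPresheaf (Opens.grothendieckTopology X.carrier) AddCommGrpCat.{u})
    ((evaluation (Opens X.carrier)ᵒᵖ AddCommGrpCat.{u}).obj (op ⊤))
  exact comp_preservesFiniteLimits _ _

/-- The derived functors of sections with supports of a module vanish with the cohomology with supports. -/
theorem isZero_rightDerived_of_HZ (M : X.Modules) (p : ℕ) [EnoughInjectives X.Modules]
    (h : Subsingleton (LocCohZ.HZc (X := X.carrier) (Coh.toAb M) p j.opensRange)) :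
    IsZero (((CxOX.sectZAb j).rightDerived p).obj M) := by
  let e := (SpSeqLib.rightDerivedCongr (sectZAbIso j) p ≪≫
    SpSeqLib.rightDerivedPrecompAcyclicIso (QCohLib.toAbF X) (LocCohZ.gammaZF (X := X.carrier) j.opensRange)
      (fun I _ q => by
        haveI : TopCat.Sheaf.IsFlasque ((QCohLib.toAbF X).obj I) :=
          LocZLib.isFlasque_of_surjective _ fun h => RpushLib.surjective_rM_injective I h
        haveI := LocZLib.subsingleton_HZ_flasque ((QCohLib.toAbF X).obj I) (le_top : j.opensRange ≤ ⊤) q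
        obtain ⟨e'⟩ := nonempty_RHZ_equiv j.opensRange ((QCohLib.toAbF X).obj I) (q + 1)
        haveI := e'.toEquiv.subsingleton
        exact AddCommGrpCat.isZero_of_subsingleton _) p).app M
  obtain ⟨e'⟩ := nonempty_RHZ_equiv j.opensRange (Coh.toAb M) p
  haveI := e'.toEquiv.subsingleton
  exact (AddCommGrpCat.isZero_of_subsingleton ((LocCohZ.RHZ (X := X.carrier) j.opensRange p).obj (Coh.toAb M))).of_iso e

/-- Vanishing in depth for locally free modules. -/
theorem isZero_rightDerived_of_depth [IsLocallyNoetherian X] [EnoughInjectives X.Modules] (d : ℕ)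
    (hdepth : ∀ y : ↥X, y ∉ Set.range j.base →
      (d : ℕ∞) ≤ LocCoh.depth ↑(X.presheaf.stalk y) ↑(X.presheaf.stalk y))
    (M : X.Modules) (hM : FlatMod.IsFinLocFree M) (p : ℕ) (hp : p < d) :
    IsZero (((CxOX.sectZAb j).rightDerived p).obj M) := by
  refine isZero_rightDerived_of_HZ j M p ?_
  have hcoh := CurveLib.isCoh_of_isFinLocFree hM
  have h0 := (LocZLib.isZero_HZsh_lt_iff_depth j.opensRange M hcoh d).2 fun x hx => by
    obtain ⟨h1, h2⟩ := DCohLib.free_finite_stalk_of_flf hM x
    haveI := h1
    haveI := h2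
    exact S14116.le_depth_of_free _ d (hdepth x hx)
  have h1 := (LocZLib.isZero_HZsh_lt_iff j.opensRange d (Coh.toAb M)).1 h0 ⊤ p hp
  obtain ⟨e⟩ := LocZLib.nonempty_HZ_congr (X := X.carrier) (Coh.toAb M) p (top_inf_eq j.opensRange)
    (inf_le_left : ⊤ ⊓ j.opensRange ≤ ⊤) (le_top : j.opensRange ≤ ⊤)
  exact e.symm.toEquiv.subsingleton

end Scheme

end Groth.Agent.RsectDepthLib
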