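import Groth.Agent.RsectDepthLib.Basic
import Groth.Agent.LocVanLib.Main
import Groth.Agent.FlResLib.Godement

/-! The lowest cohomology with supports of complexes of locally free sheaves. -/

set_option autoImplicit false
set_option linter.style.haveILetI false
set_option backward.isDefEq.respectTransparency false
set_option backward.isDefEq.respectTransparency.types false
set_option maxHeartbeats 1000000

universe v u w z

open CategoryTheory CategoryTheory.Limits AlgebraicGeometry TopologicalSpace Opposite Pretriangulated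
open scoped ZeroObject

attribute [local instance] HasDerivedCategory.standard

noncomputable section

namespace Groth.Agent.RsectDepthLib

section Generic

variable {A : Type (v + 1)} [Category.{v} A] [Abelian A] [IsGrothendieckAbelian.{v} A] [EnoughInjectives A]
  {B : Type w} [Category.{z} B] [Abelian B] (F : A ⥤ B) [F.Additive]
  [(F.mapHomotopyCategory (ComplexShape.up ℤ) ⋙ DerivedCategory.Qh).HasRightDerivedFunctor
    (HomotopyCategory.quasiIso A (ComplexShape.up ℤ))]

local notation "RF" => Functor.totalRightDerived (Functor.mapHomotopyCategory F (ComplexShape.up ℤ) ⋙ DerivedCategory.Qh)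
  DerivedCategory.Qh (HomotopyCategory.quasiIso A (ComplexShape.up ℤ))

/-- A right derived functor is isomorphic to a triangulated functor. -/
theorem exists_triangulated' : ∃ (G : DerivedCategory A ⥤ DerivedCategory B)
    (_ : G.CommShift ℤ), G.IsTriangulated ∧ Nonempty (RF ≅ G) := by
  let hres := KInj.hres_of_isGrothendieckAbelian A
  let Φ := F.mapHomotopyCategory (ComplexShape.up ℤ) ⋙ DerivedCategory.Qh
  let adj := KInj.qhAdjunction hres
  let R := KInj.rightAdj hres
  letI : R.CommShift ℤ := adj.rightAdjointCommShift ℤ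
  haveI : adj.CommShift ℤ := adj.commShift_of_leftAdjoint ℤ
  haveI : R.IsTriangulated := adj.isTriangulated_rightAdjoint
  exact ⟨R ⋙ F.mapHomotopyCategory (ComplexShape.up ℤ) ⋙ DerivedCategory.Qh, inferInstance, inferInstance,
    ⟨Functor.rightDerivedUnique RF (R ⋙ Φ)
      (Φ.totalRightDerivedUnit DerivedCategory.Qh (HomotopyCategory.quasiIso A (ComplexShape.up ℤ)))
      (KInj.derivedUnit hres Φ) (HomotopyCategory.quasiIso A (ComplexShape.up ℤ))⟩⟩

/-- The derived functor on the model given by a bounded below complex of injectives. -/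
theorem nonempty_model (E : DerivedCategory A) (I : CochainComplex A ℤ) (a : ℤ) [I.IsStrictlyGE a]
    [∀ n, Injective (I.X n)] (e : DerivedCategory.Q.obj I ≅ E) :
    Nonempty ((RF).obj E ≅ DerivedCategory.Q.obj ((F.mapHomologicalComplex (ComplexShape.up ℤ)).obj I)) := by
  haveI := CochainComplex.isKInjective_of_injective I a
  let hres := KInj.hres_of_isGrothendieckAbelian A
  let Φ := F.mapHomotopyCategory (ComplexShape.up ℤ) ⋙ DerivedCategory.Qh
  let α := Φ.totalRightDerivedUnit DerivedCategory.Qh (HomotopyCategory.quasiIso A (ComplexShape.up ℤ))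
  haveI := KInj.isIso_app_of_isKInjective hres Φ RF α I
  let q := HomotopyCategory.quotient A (ComplexShape.up ℤ)
  exact ⟨((RF).mapIso ((DerivedCategory.quotientCompQhIso A).app I ≪≫ e)).symm ≪≫
    (asIso (α.app (q.obj I))).symm ≪≫
    DerivedCategory.Qh.mapIso ((F.mapHomotopyCategoryFactors (ComplexShape.up ℤ)).app I) ≪≫
    (DerivedCategory.quotientCompQhIso B).app _⟩

omit [IsGrothendieckAbelian.{v} A] in
theorem exists_model (E : DerivedCategory A) (a : ℤ) [hge : E.IsGE a] :
    ∃ (I : CochainComplex A ℤ) (_ : I.IsStrictlyGE a) (_ : ∀ n, Injective (I.X n)),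
      Nonempty (DerivedCategory.Q.obj I ≅ E) := by
  let Z : DerivedCategory.Plus A := ⟨E, a, hge⟩
  haveI : Z.IsGE a := (Z.isGE_ι_obj_iff a).1 hge
  obtain ⟨L, hL, ⟨e⟩⟩ := DerivedCategory.Plus.exists_injective_nonempty_iso Z a
  refine ⟨((InjectiveObject.ι A).mapHomologicalComplex (ComplexShape.up ℤ)).obj L.obj, inferInstance,
    fun n => inferInstanceAs (Injective ((InjectiveObject.ι A).obj (L.obj.X n))), ⟨DerivedCategory.Plus.ι.mapIso e⟩⟩

/-- The derived functor preserves lower bounds. -/
theorem isZero_of_isGE'' (E : DerivedCategory A) (a : ℤ) [E.IsGE a] (i : ℤ) (hi : i < a) :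
    IsZero ((DerivedCategory.homologyFunctor B i).obj ((RF).obj E)) := by
  obtain ⟨I, _, _, ⟨e⟩⟩ := exists_model E a
  obtain ⟨e'⟩ := nonempty_model F E I a e
  refine IsZero.of_iso ?_ ((DerivedCategory.homologyFunctor B i).mapIso e' ≪≫
    (DerivedCategory.homologyFunctorFactors B i).app _)
  show IsZero (HomologicalComplex.homology _ i)
  rw [← HomologicalComplex.exactAt_iff_isZero_homology]
  exact ShortComplex.exact_of_isZero_X₂ _ (F.map_isZero (CochainComplex.isZero_of_isStrictlyGE I a i hi))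

/-- A single object in degree zero. -/
theorem isZero_single_zero' (M : A) (p : ℕ) (hM : IsZero ((F.rightDerived p).obj M)) :
    IsZero ((DerivedCategory.homologyFunctor B (p : ℤ)).obj
      ((RF).obj ((DerivedCategory.singleFunctor A 0).obj M))) := by
  let Z : DerivedCategory.Plus A := (DerivedCategory.Plus.singleFunctor A 0).obj M
  obtain ⟨L, hL, ⟨e⟩⟩ := DerivedCategory.Plus.exists_injective_nonempty_iso Z 0
  let I : CochainComplex A ℤ := ((InjectiveObject.ι A).mapHomologicalComplex (ComplexShape.up ℤ)).obj L.obj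
  haveI : I.IsStrictlyGE 0 := inferInstance
  haveI : ∀ n, Injective (I.X n) := fun n => inferInstanceAs (Injective ((InjectiveObject.ι A).obj (L.obj.X n)))
  obtain ⟨e'⟩ := nonempty_model F ((DerivedCategory.singleFunctor A 0).obj M) I 0 (DerivedCategory.Plus.ι.mapIso e)
  obtain ⟨e₁⟩ := SpSeqLib.nonempty_rG_single_iso F M p
  exact hM.of_iso ((DerivedCategory.homologyFunctor B (p : ℤ)).mapIso e' ≪≫
    (DerivedCategory.homologyFunctorFactors B (p : ℤ)).app _ ≪≫
    (SpSeqLib.rGInjIso F L (p : ℤ)).symm ≪≫ ((SpSeqLib.rG F).shift (p : ℤ)).mapIso e ≪≫ e₁)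

theorem isZero_single' (M : A) (d : ℕ) (hM : ∀ p : ℕ, p < d → IsZero ((F.rightDerived p).obj M)) (a n : ℤ)
    (h : n < a + d) :
    IsZero ((DerivedCategory.homologyFunctor B n).obj
      ((RF).obj (DerivedCategory.Q.obj ((HomologicalComplex.single A (ComplexShape.up ℤ) a).obj M)))) := by
  by_cases hn : n < a
  · haveI : (DerivedCategory.Q.obj ((HomologicalComplex.single A (ComplexShape.up ℤ) a).obj M)).IsGE a :=
      inferInstance
    exact isZero_of_isGE'' F _ a n hn
  · obtain ⟨p, hp⟩ : ∃ p : ℕ, n = a + p := ⟨(n - a).toNat, by omega⟩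
    obtain ⟨G, _, hG, ⟨eG⟩⟩ := exists_triangulated' F
    let S₀ := (DerivedCategory.singleFunctor A 0).obj M
    let eS : DerivedCategory.Q.obj ((HomologicalComplex.single A (ComplexShape.up ℤ) a).obj M) ≅ S₀⟦-a⟧ :=
      ((DerivedCategory.singleFunctorIsoCompQ A a).app M).symm ≪≫
        (((DerivedCategory.singleFunctors A).shiftIso (-a) a 0 (by omega)).app M).symm
    refine (isZero_single_zero' F M p (hM p (by omega))).of_iso ?_
    exact (DerivedCategory.homologyFunctor _ n).mapIso ((RF).mapIso eS ≪≫ eG.app _ ≪≫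
        (G.commShiftIso (-a)).app S₀ ≪≫ (shiftFunctor _ (-a)).mapIso (eG.app S₀).symm) ≪≫
      ((DerivedCategory.homologyFunctor B 0).shiftIso (-a) n (p : ℤ) (by omega)).app _

theorem isZero_of_terms' (K : CochainComplex A ℤ) (d : ℕ) (hK0 : ∀ q : ℤ, q < d → IsZero (K.X q))
    (hK : ∀ (q : ℤ) (p : ℕ), p < d → IsZero ((F.rightDerived p).obj (K.X q))) (n : ℤ) (hn : n < d + d) :
    IsZero ((DerivedCategory.homologyFunctor B n).obj ((RF).obj (DerivedCategory.Q.obj K))) := by
  have step : ∀ (k : ℕ) (a : ℤ), (d : ℤ) ≤ a → n + 1 ≤ a + k →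
      IsZero ((DerivedCategory.homologyFunctor B n).obj ((RF).obj (DerivedCategory.Q.obj (KFlat.brutal K a)))) := by
    intro k
    induction k with
    | zero =>
      intro a ha h
      haveI : (KFlat.brutal K a).IsStrictlyGE a := by
        rw [CochainComplex.isStrictlyGE_iff]
        exact fun i hi => KFlat.isZero_brutal K a hi
      haveI : (DerivedCategory.Q.obj (KFlat.brutal K a)).IsGE a := inferInstance
      exact isZero_of_isGE'' F _ a n (by omega)
    | succ k ih =>
      intro a ha h
      have hS : (KFlat.brutalShortComplex K a).ShortExact :=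
        HomologicalComplex.shortExact_of_degreewise_shortExact _ fun i => (KFlat.brutalSplitting K a i).shortExact
      obtain ⟨G, _, hG, ⟨eG⟩⟩ := exists_triangulated' F
      have hT := G.map_distinguished _ (DerivedCategory.triangleOfSES_distinguished hS)
      have h1 := (ih (a + 1) (by omega) (by omega)).of_iso ((DerivedCategory.homologyFunctor B n).mapIso (eG.app _).symm)
      have h3 := (isZero_single' F (K.X a) d (hK a) a n (by omega)).of_iso
        ((DerivedCategory.homologyFunctor B n).mapIso (eG.app _).symm)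
      exact ((DerivedCategory.HomologySequence.exact₂ _ hT n).isZero_of_both_zeros (h1.eq_of_src _ _)
        (h3.eq_of_tgt _ _)).of_iso ((DerivedCategory.homologyFunctor B n).mapIso (eG.app _))
  haveI : IsIso (KFlat.brutalι K (d : ℤ)) := by
    haveI : ∀ i, IsIso ((KFlat.brutalι K (d : ℤ)).f i) := fun i => by
      by_cases hi : (d : ℤ) ≤ i
      · exact KFlat.isIso_incl K _ hi
      · exact ⟨0, (KFlat.isZero_brutal K _ (by omega)).eq_of_src _ _, (hK0 i (by omega)).eq_of_src _ _⟩
    exact HomologicalComplex.Hom.isIso_of_components _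
  exact (step (n + 1 - d).toNat d le_rfl (by omega)).of_iso
    ((DerivedCategory.homologyFunctor _ n).mapIso ((RF).mapIso
      (DerivedCategory.Q.mapIso (asIso (KFlat.brutalι K (d : ℤ))).symm)))

end Generic

section Scheme

variable {U X : Scheme.{u}} (j : U ⟶ X) [IsOpenImmersion j]

/-- Vanishing of the local cohomology modules in depth. -/
theorem isZero_gammaZ_rightDerived [IsLocallyNoetherian X] [EnoughInjectives X.Modules] (d : ℕ)
    (hdepth : ∀ y : ↥X, y ∉ Set.range j.base →
      (d : ℕ∞) ≤ LocCoh.depth ↑(X.presheaf.stalk y) ↑(X.presheaf.stalk y))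
    (M : X.Modules) (hM : FlatMod.IsFinLocFree M) (p : ℕ) (hp : p < d) :
    IsZero (((DCoh.gammaZ j).rightDerived p).obj M) := by
  have hcoh := CurveLib.isCoh_of_isFinLocFree hM
  have h0 := (LocZLib.isZero_HZsh_lt_iff_depth j.opensRange M hcoh d).2 fun x hx => by
    obtain ⟨h1, h2⟩ := DCohLib.free_finite_stalk_of_flf hM x
    haveI := h1
    haveI := h2
    exact S14116.le_depth_of_free _ d (hdepth x hx)
  let e := ((SpSeqLib.rightDerivedPostcompIso (DCoh.gammaZ j) (QCohLib.toAbF X) p).symm ≪≫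
    SpSeqLib.rightDerivedCongr (LocZLib.QCohLC.gammaZToAbIso j) p ≪≫
    SpSeqLib.rightDerivedPrecompAcyclicIso (QCohLib.toAbF X) (LocCohZ.sectSuppF (X := X.carrier) j.opensRange)
      (fun I _ =>
        haveI : TopCat.Sheaf.IsFlasque ((QCohLib.toAbF X).obj I) :=
          LocZLib.isFlasque_of_surjective _ fun h => RpushLib.surjective_rM_injective I h
        fun q => LocZLib.isZero_HZsh_flasque j.opensRange q ((QCohLib.toAbF X).obj I)) p).app M
  have h2 : IsZero ((QCohLib.toAbF X).obj (((DCoh.gammaZ j).rightDerived p).obj M)) := (h0 p hp).of_iso e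
  exact (IsZero.iff_id_eq_zero _).2 ((QCohLib.toAbF X).map_injective (h2.eq_of_src _ _))

/-- Flasque modules are acyclic for global sections. -/
theorem isAcyclicFor_gammaAb [EnoughInjectives X.Modules] (M : X.Modules)
    [TopCat.Sheaf.IsFlasque ((QCohLib.toAbF X).obj M)] : SpSeqLib.IsAcyclicFor (DCoh.gammaAb X) M := by
  intro p
  let Φ := preadditiveCoyoneda.obj (op (CohCx.freeSheaf (Opens.grothendieckTopology X.carrier) (⊤ : X.Opens)))
  have hΦ : ∀ (N : CohTop.Ab X.carrier) [TopCat.Sheaf.IsFlasque N] (q : ℕ), IsZero ((Φ.rightDerived (q + 1)).obj N) :=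
    fun N _ q => by
      obtain ⟨e⟩ := SpSeqLib.nonempty_rightDerived_coyoneda_natIso
        (CohCx.freeSheaf (Opens.grothendieckTopology X.carrier) (⊤ : X.Opens)) (q + 1)
      exact (@AddCommGrpCat.isZero_of_subsingleton _ (LocZLib.subsingleton_HU_flasque (X := X.carrier) ⊤ q N)).of_iso (e.app N)
  let e := (SpSeqLib.rightDerivedCongr (G := QCohLib.toAbF X ⋙ Φ)
    (Functor.isoWhiskerLeft (QCohLib.toAbF X) (S6027.evalIso (X := X.carrier) ⊤).symm) (p + 1) ≪≫
    SpSeqLib.rightDerivedPrecompAcyclicIso (QCohLib.toAbF X) Φ (fun I _ q => by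
      haveI : TopCat.Sheaf.IsFlasque ((QCohLib.toAbF X).obj I) :=
        LocZLib.isFlasque_of_surjective _ fun h => RpushLib.surjective_rM_injective I h
      exact hΦ _ q) (p + 1)).app M
  exact (hΦ _ p).of_iso e

theorem isFlasque_gammaZ (I : X.Modules) [Injective I] :
    TopCat.Sheaf.IsFlasque ((QCohLib.toAbF X).obj ((DCoh.gammaZ j).obj I)) := by
  haveI : TopCat.Sheaf.IsFlasque ((QCohLib.toAbF X).obj I) :=
    LocZLib.isFlasque_of_surjective _ fun h => RpushLib.surjective_rM_injective I h
  exact FlResLib.isFlasque_of_iso ((LocZLib.QCohLC.gammaZToAbIso j).app I)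
    (LocZLib.isFlasque_sectSupp (X := X.carrier) j.opensRange ((QCohLib.toAbF X).obj I))

/-- The lowest cohomology with supports. -/
theorem nonempty_edge [CxOX.HasRgammaZ j] [CxOX.HasRsectZ j] (K : CochainComplex X.Modules ℤ) (d m : ℤ)
    [K.IsStrictlyGE d]
    (hv : ∀ i : ℤ, i < m → IsZero (DCoh.HD ((CxOX.RgammaZ j).obj (DCoh.toD X K)) i)) :
    Nonempty ((DCoh.gammaAb X).obj (DCoh.HD ((CxOX.RgammaZ j).obj (DCoh.toD X K)) m) ≅
      (DerivedCategory.homologyFunctor AddCommGrpCat.{u} m).obj ((CxOX.RsectZ j).obj (DCoh.toD X K))) := by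
  let Γ := DCoh.gammaAb X
  haveI : (DerivedCategory.Q.obj K).IsGE d := inferInstance
  obtain ⟨I, _, _, ⟨e⟩⟩ := exists_model (DerivedCategory.Q.obj K) d
  obtain ⟨e₁⟩ := nonempty_model (DCoh.gammaZ j) _ I d e
  obtain ⟨e₂⟩ := nonempty_model (CxOX.sectZAb j) _ I d e
  let G : CochainComplex X.Modules ℤ := ((DCoh.gammaZ j).mapHomologicalComplex (ComplexShape.up ℤ)).obj I
  haveI : G.IsStrictlyGE d := by
    rw [CochainComplex.isStrictlyGE_iff]
    exact fun i hi => (DCoh.gammaZ j).map_isZero (CochainComplex.isZero_of_isStrictlyGE I d i hi)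
  haveI : (DerivedCategory.Q.obj G).IsGE m := (DerivedCategory.isGE_iff _ _).2 fun i hi =>
    (hv i hi).of_iso ((DerivedCategory.homologyFunctor X.Modules i).mapIso e₁.symm)
  obtain ⟨J, _, _, ⟨eJ⟩⟩ := exists_model (DerivedCategory.Q.obj G) m
  haveI := CochainComplex.isKInjective_of_injective J m
  let qh := DerivedCategory.quotientCompQhIso X.Modules
  obtain ⟨φh, hφh⟩ := (CochainComplex.IsKInjective.Qh_map_bijective
    ((HomotopyCategory.quotient _ _).obj G) J).surjective ((qh.app G).hom ≫ eJ.inv ≫ (qh.app J).inv)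
  obtain ⟨φ, hφ⟩ := (HomotopyCategory.quotient X.Modules (ComplexShape.up ℤ)).map_surjective φh
  haveI : IsIso (DerivedCategory.Q.map φ) := by
    haveI : IsIso (DerivedCategory.Qh.map ((HomotopyCategory.quotient _ _).map φ)) := by
      rw [hφ, hφh]; infer_instance
    exact (NatIso.isIso_map_iff qh φ).1 this
  haveI : QuasiIso φ := (DerivedCategory.isIso_Q_map_iff_quasiIso (C := X.Modules) φ).1 inferInstance
  let n₀ := min d m
  haveI : PreservesFiniteLimits Γ := by
    haveI := comp_preservesFiniteLimits (sheafToPresheaf (Opens.grothendieckTopology X.carrier) AddCommGrpCat.{u})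
      ((evaluation (Opens X.carrier)ᵒᵖ AddCommGrpCat.{u}).obj (op ⊤))
    exact comp_preservesFiniteLimits (QCohLib.toAbF X) (sheafToPresheaf (Opens.grothendieckTopology X.carrier) AddCommGrpCat.{u} ⋙
      (evaluation (Opens X.carrier)ᵒᵖ AddCommGrpCat.{u}).obj (op ⊤))
  haveI : G.IsStrictlyGE n₀ := CochainComplex.isStrictlyGE_of_ge G n₀ d (min_le_left _ _)
  haveI : J.IsStrictlyGE n₀ := CochainComplex.isStrictlyGE_of_ge J n₀ m (min_le_right _ _)
  haveI hq := SpSeqLib.quasiIso_map Γ φ n₀
    (fun n => by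
      haveI := isFlasque_gammaZ j (I.X n)
      exact isAcyclicFor_gammaAb ((DCoh.gammaZ j).obj (I.X n)))
    (fun n => SpSeqLib.isAcyclicFor_of_injective Γ (J.X n))
  let sc := J.sc m
  have hf : sc.f = 0 :=
    (CochainComplex.isZero_of_isStrictlyGE J m ((ComplexShape.up ℤ).prev m) (by simp)).eq_of_src _ _
  have hf' : (sc.map Γ).f = 0 := by
    show Γ.map sc.f = 0
    rw [hf, Γ.map_zero]
  let eJ' : Γ.obj sc.homology ≅ (sc.map Γ).homology :=
    Γ.mapIso ((sc.asIsoHomologyπ hf).symm ≪≫ sc.cyclesIsoKernel) ≪≫ PreservesKernel.iso Γ sc.g ≪≫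
      (sc.map Γ).cyclesIsoKernel.symm ≪≫ (sc.map Γ).asIsoHomologyπ hf'
  exact ⟨Γ.mapIso ((DerivedCategory.homologyFunctor X.Modules m).mapIso e₁ ≪≫
      (DerivedCategory.homologyFunctorFactors X.Modules m).app G ≪≫ isoOfQuasiIsoAt φ m) ≪≫
    eJ' ≪≫ (isoOfQuasiIsoAt ((Γ.mapHomologicalComplex (ComplexShape.up ℤ)).map φ) m).symm ≪≫
    ((DerivedCategory.homologyFunctor AddCommGrpCat.{u} m).mapIso e₂ ≪≫
      (DerivedCategory.homologyFunctorFactors AddCommGrpCat.{u} m).app _).symm⟩

end Scheme

end Groth.Agent.RsectDepthLib
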